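import Cfsg.Agent.Mrg.Omega.NO3S.Pas.Inst
import Cfsg.Agent.Mrg.Omega.NOne.Flat.Conj
import Cfsg.Agent.Mrg.Omega.NOne.Flat.Off

section


/-!
# GammaFF: galleries of good lines for a set `𝒯` of types (family version of `NOThreeL/Low/LA/Front.lean`, helper876)

`𝒯 ⊆ P*(S)` a set of minimal parabolics, `M ≤ N_G(V)` a group containing all `P ∈ 𝒯`, `F` a maximal bad subgroup of `V`
(`Flat.Hyp V F`), `X = C_G(F)`, `R = O₂(X)`, `E = V ∩ R = EE V F`, `W = ⟨E^X⟩ = WW V F`.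

A *chamber* is an element `g` of `M` (standing for `S^g = MulAut.conj g • S`); its lines are `V_P^g`,
`P ∈ 𝒯`; a line is *good* if it is contained in `E`.

* `ChT 𝒯 M S W n g` : `g` is at `𝒯`-gallery distance at most `n` from a chamber `a ∈ M` with `W ≤ S^a`;
* `FrT 𝒯 S M V F n` : all lines of chambers at distance `< n` are good, `1` is at distance `≤ n`;
* `FrT.gal`, `BBT 𝒯 M S V F n`, `FrT.B_comm`, `FrT.B_sq`, `FrT.X_norm_B`, `FrT.B_le_W`, `FrT.B_le_conj`, `FrT.cent_le_conj`;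
* `BLT 𝒯 M S V F n = BBT ⊔ F`; `bhT` : `BH V F BLT`; `fr_threeT`, `fr_keyT`, `fr_spanT`: the KEY (3) of helper876 for a bad
  line of type `Tp` at distance `≤ n`;
* `exists_frT` : if `⟨Z^M⟩ ≰ E`, `M = ⟨𝒯⟩`, then some `M`-conjugate of `F` has a front with a bad line `V_P`, `P ∈ 𝒯`.
-/

set_option autoImplicit false
set_option linter.unusedSectionVars false

namespace Cfsg.Agent.Omega.NO3S.Pas

open Subgroup Cfsg Cfsg.Agent.ZN Cfsg.Agent.Omega.MinPar Cfsg.Agent.Omega.Frame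
open Cfsg.Agent.Omega.FrameNOFF
open Cfsg.Agent.Omega.NoFF.Basic (V conj_conj mem_conj conj_le_iff conj_le_centralizer comm_symm comm_mono
  Z_le_V V_le conj_V_mul Sys Gal conj_Z_le conj_self)
open Cfsg.Agent.Omega.NOne.Flat (EE Bad NN BadX Cos card_mul_relIndex' conj_eq_of_norm conj_centralizer WW_conj
  EE_conj conj_eq_of_cent)
open Cfsg.Agent.Omega.NOne.NearFF (c)
open Cfsg.Agent.Omega.NOThreeL.Low (Tp Blk)
open Cfsg.Agent.Omega.NOThreeL.Low.Key (BH)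
open scoped Pointwise

universe u

variable {G : Type u} [Group G]

/-- `g` is at distance at most `n` from a chamber `a ∈ M` with `W ≤ S^a`. -/
def ChT (𝒯 : Set (Subgroup G)) (M S W : Subgroup G) (n : ℕ) (g : G) : Prop :=
  ∃ a, a ∈ M ∧ W ≤ MulAut.conj a • S ∧ Gal 𝒯 n a g

/-- The good lines of the chambers at distance `≤ n`. -/
def GdT (𝒯 : Set (Subgroup G)) (M S V F : Subgroup G) (n : ℕ) : Set (Subgroup G) :=
  {l | ∃ j ≤ n, ∃ g, ChT 𝒯 M S (NOne.Flat.WW V F) j g ∧ ∃ P, P ∈ 𝒯 ∧ l = MulAut.conj g • zl S P ∧ l ≤ EE V F}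

/-- `B`: generated by the `X`-conjugates of the good lines of the chambers at distance `≤ n`. -/
def BBT (𝒯 : Set (Subgroup G)) (M S V F : Subgroup G) (n : ℕ) : Subgroup G :=
  sSup {A | ∃ l ∈ GdT 𝒯 M S V F n, ∃ x ∈ centralizer (F : Set G), A = MulAut.conj x • l}

/-- **The front**: all lines of chambers at distance `< n` are good, `1` is at distance `≤ n`. -/
structure FrT [Finite G] (𝒯 : Set (Subgroup G)) (S : Sylow 2 G) (M V F : Subgroup G) (n : ℕ) : Prop where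
  hc : IsCharacteristicTwoType G
  noff : ¬ FF (S : Subgroup G)
  hyp : NOne.Flat.Hyp V F
  TT : ∀ P ∈ 𝒯, IsParS (S : Subgroup G) P
  PM : ∀ P, P ∈ 𝒯 → P ≤ M
  MV : M ≤ normalizer (V : Set G)
  ZV : zc (S : Subgroup G) ≤ V
  least : ∀ j < n, ∀ g, ChT 𝒯 M (S : Subgroup G) (NOne.Flat.WW V F) j g → ∀ P, P ∈ 𝒯 →
    MulAut.conj g • zl (S : Subgroup G) P ≤ EE V F
  one : ChT 𝒯 M (S : Subgroup G) (NOne.Flat.WW V F) n 1

/-! ### chambers -/

section ch

variable {𝒯 : Set (Subgroup G)} {M S W : Subgroup G}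

theorem ChT.mul {n : ℕ} {g : G} (h : ChT 𝒯 M S W n g) {P : Subgroup G} (hP : P ∈ 𝒯) {p : G} (hp : p ∈ P) :
    ChT 𝒯 M S W (n + 1) (g * p) := by
  obtain ⟨a, ha, haW, hg⟩ := h
  exact ⟨a, ha, haW, hg.step hP hp⟩

theorem ChT.mem (hM : ∀ P, P ∈ 𝒯 → P ≤ M) {n : ℕ} {g : G} (h : ChT 𝒯 M S W n g) : g ∈ M := by
  obtain ⟨a, ha, -, hg⟩ := h
  induction hg with
  | zero => exact ha
  | step _ hP hp ih => exact mul_mem (ih ha) (hM _ hP hp)

theorem ChT.zero_le {g : G} (h : ChT 𝒯 M S W 0 g) : W ≤ MulAut.conj g • S := by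
  obtain ⟨a, _, haW, hg⟩ := h
  cases hg
  exact haW

/-- the last step of a gallery -/
theorem ChT.last {n : ℕ} {g : G} (h : ChT 𝒯 M S W (n + 1) g) :
    ∃ P, P ∈ 𝒯 ∧ ∃ p ∈ P, ∃ g', ChT 𝒯 M S W n g' ∧ g = g' * p := by
  obtain ⟨a, ha, haW, hg⟩ := h
  cases hg with
  | @step _ _ g' p P hg hP hp => exact ⟨P, hP, p, hp, g', ⟨a, ha, haW, hg⟩, rfl⟩

theorem ChT.mono {n k : ℕ} (hnk : n ≤ k) (hne : 𝒯.Nonempty) {g : G} (h : ChT 𝒯 M S W n g) :
    ChT 𝒯 M S W k g := by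
  obtain ⟨P, hP⟩ := hne
  induction hnk with
  | refl => exact h
  | step _ ih =>
    have := ih.mul hP (one_mem P)
    rwa [mul_one] at this

end ch

namespace FrT

variable [Finite G] {𝒯 : Set (Subgroup G)} {S : Sylow 2 G} {M V F : Subgroup G} {n : ℕ} (h : FrT 𝒯 S M V F n)
include h

theorem sys : Sys (S : Subgroup G) (zc (S : Subgroup G)) (PS (S : Subgroup G)) :=
  FrameNOFF.sys h.hc S h.noff

/-- `C_{S^g}(V_P^g) ≤ S^{gp}` -/
theorem pass {P : Subgroup G} (hP : P ∈ 𝒯) {g p : G} (hp : p ∈ P) {A : Subgroup G}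
    (hA : A ≤ MulAut.conj g • (S : Subgroup G))
    (hc : A ≤ centralizer ((MulAut.conj g • zl (S : Subgroup G) P : Subgroup G) : Set G)) :
    A ≤ MulAut.conj (g * p) • (S : Subgroup G) :=
  h.sys.pass (h.TT _ hP) hp hA fun _ hp' => comm_mono hc le_rfl (conj_Z_le hp')

theorem zl_le_V {P : Subgroup G} (hP : P ∈ 𝒯) : zl (S : Subgroup G) P ≤ V :=
  MinSimple.VModule.zl_le h.ZV ((h.PM P hP).trans h.MV)

theorem conj_V {g : G} (hg : g ∈ M) : MulAut.conj g • V = V := NOne.Flat.conj_eq_of_norm (h.MV hg)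

theorem line_le_V {g : G} (hg : g ∈ M) {P : Subgroup G} (hP : P ∈ 𝒯) :
    MulAut.conj g • zl (S : Subgroup G) P ≤ V := by
  rw [← h.conj_V hg]
  exact conj_le_iff.2 (h.zl_le_V hP)

theorem mem_M {j : ℕ} {g : G} (hg : ChT 𝒯 M (S : Subgroup G) (NOne.Flat.WW V F) j g) : g ∈ M := hg.mem h.PM

omit [Finite G] h in
theorem conj_conj_inv (x : G) (A : Subgroup G) : MulAut.conj x • (MulAut.conj x⁻¹ • A) = A := by
  rw [conj_conj, mul_inv_cancel, map_one, one_smul]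

/-- `l^x ≤ S^{g'}`, from (GAL) for smaller distances -/
theorem gal_le {k : ℕ} (ih : ∀ m < k, ∀ i j : ℕ, i + j = m → i ≤ n → j ≤ n → ∀ g g' : G,
    ChT 𝒯 M (S : Subgroup G) (NOne.Flat.WW V F) i g → ChT 𝒯 M (S : Subgroup G) (NOne.Flat.WW V F) j g' →
    ∀ P P' : Subgroup G, P ∈ 𝒯 → P' ∈ 𝒯 →
    MulAut.conj g • zl (S : Subgroup G) P ≤ EE V F → MulAut.conj g' • zl (S : Subgroup G) P' ≤ EE V F →
    ∀ x ∈ centralizer (F : Set G),
      MulAut.conj (x * g) • zl (S : Subgroup G) P ≤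
        centralizer ((MulAut.conj g' • zl (S : Subgroup G) P' : Subgroup G) : Set G))
    {i : ℕ} (hi : i ≤ n) {g : G} (hg : ChT 𝒯 M (S : Subgroup G) (NOne.Flat.WW V F) i g)
    {P : Subgroup G} (hP : P ∈ 𝒯) (hl : MulAut.conj g • zl (S : Subgroup G) P ≤ EE V F)
    {x : G} (hx : x ∈ centralizer (F : Set G)) :
    ∀ j : ℕ, i + j ≤ k → j ≤ n → ∀ g' : G, ChT 𝒯 M (S : Subgroup G) (NOne.Flat.WW V F) j g' →
      MulAut.conj (x * g) • zl (S : Subgroup G) P ≤ MulAut.conj g' • (S : Subgroup G) := by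
  intro j
  induction j with
  | zero =>
    intro _ _ g' hg'
    refine le_trans ?_ hg'.zero_le
    rw [← conj_conj]
    exact (conj_le_iff.2 hl).trans (NOne.Flat.Hyp.conjE_le_W hx)
  | succ j ihj =>
    intro hij hj g' hg'
    obtain ⟨P', hP', p, hp, g'', hg'', rfl⟩ := hg'.last
    have h1 := h.least j (by omega) g'' hg'' P' hP'
    have h2 := ih (i + j) (by omega) i j rfl hi (by omega) g g'' hg hg'' P P' hP hP' hl h1 x hx
    exact h.pass hP' hp (ihj (by omega) (by omega) g'' hg'') h2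

/-- **(GAL)** -/
theorem gal_aux (k : ℕ) : ∀ i j : ℕ, i + j = k → i ≤ n → j ≤ n → ∀ g g' : G,
    ChT 𝒯 M (S : Subgroup G) (NOne.Flat.WW V F) i g → ChT 𝒯 M (S : Subgroup G) (NOne.Flat.WW V F) j g' →
    ∀ P P' : Subgroup G, P ∈ 𝒯 → P' ∈ 𝒯 →
    MulAut.conj g • zl (S : Subgroup G) P ≤ EE V F → MulAut.conj g' • zl (S : Subgroup G) P' ≤ EE V F →
    ∀ x ∈ centralizer (F : Set G),
      MulAut.conj (x * g) • zl (S : Subgroup G) P ≤
        centralizer ((MulAut.conj g' • zl (S : Subgroup G) P' : Subgroup G) : Set G) := by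
  induction k using Nat.strong_induction_on with
  | _ k ih =>
    intro i j hij hi hj g g' hg hg' P P' hP hP' hl hl' x hx
    have h1 := h.gal_le ih hi hg hP hl hx j (by omega) hj g' hg'
    have h2 := h.gal_le ih hj hg' hP' hl' (inv_mem hx) i (by omega) hi g hg
    refine h.sys.noff' (h.TT _ hP) (h.TT _ hP') (h1.trans (conj_le_iff.2 (h.TT _ hP').le)) ?_
    have h3 := conj_le_iff (g := x).2 h2
    rw [conj_conj, conj_conj, mul_inv_cancel_left] at h3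
    exact h3.trans (conj_le_iff.2 (h.TT _ hP).le)

/-- **(GAL)**: good lines at distance `≤ n`: `[l^x, l'] = 1` for `x ∈ X`. -/
theorem gal {i j : ℕ} (hi : i ≤ n) (hj : j ≤ n) {g g' : G} (hg : ChT 𝒯 M (S : Subgroup G) (NOne.Flat.WW V F) i g)
    (hg' : ChT 𝒯 M (S : Subgroup G) (NOne.Flat.WW V F) j g') {P P' : Subgroup G} (hP : P ∈ 𝒯)
    (hP' : P' ∈ 𝒯) (hl : MulAut.conj g • zl (S : Subgroup G) P ≤ EE V F)
    (hl' : MulAut.conj g' • zl (S : Subgroup G) P' ≤ EE V F) {x : G} (hx : x ∈ centralizer (F : Set G)) :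
    MulAut.conj (x * g) • zl (S : Subgroup G) P ≤
      centralizer ((MulAut.conj g' • zl (S : Subgroup G) P' : Subgroup G) : Set G) :=
  h.gal_aux _ i j rfl hi hj g g' hg hg' P P' hP hP' hl hl' x hx

/-- **(GAL)**: `l^x ≤ S^{g'}`. -/
theorem gal_le_S {i j : ℕ} (hi : i ≤ n) (hj : j ≤ n) {g g' : G} (hg : ChT 𝒯 M (S : Subgroup G) (NOne.Flat.WW V F) i g)
    (hg' : ChT 𝒯 M (S : Subgroup G) (NOne.Flat.WW V F) j g') {P : Subgroup G} (hP : P ∈ 𝒯)
    (hl : MulAut.conj g • zl (S : Subgroup G) P ≤ EE V F) {x : G} (hx : x ∈ centralizer (F : Set G)) :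
    MulAut.conj (x * g) • zl (S : Subgroup G) P ≤ MulAut.conj g' • (S : Subgroup G) :=
  h.gal_le (k := i + j) (fun m _ => h.gal_aux m) hi hg hP hl hx j le_rfl hj g' hg'

/-! ### the group `B` -/

omit [Finite G] h in
theorem le_BB {l : Subgroup G} (hl : l ∈ GdT 𝒯 M (S : Subgroup G) V F n) {x : G}
    (hx : x ∈ centralizer (F : Set G)) : MulAut.conj x • l ≤ BBT 𝒯 M (S : Subgroup G) V F n :=
  le_sSup ⟨l, hl, x, hx, rfl⟩

omit [Finite G] h in
theorem le_BB' {l : Subgroup G} (hl : l ∈ GdT 𝒯 M (S : Subgroup G) V F n) :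
    l ≤ BBT 𝒯 M (S : Subgroup G) V F n := by
  have := le_BB hl (one_mem (centralizer (F : Set G)))
  rwa [map_one, one_smul] at this

omit [Finite G] h in
theorem BB_le {A : Subgroup G} (hA : ∀ l ∈ GdT 𝒯 M (S : Subgroup G) V F n, ∀ x ∈ centralizer (F : Set G),
    MulAut.conj x • l ≤ A) : BBT 𝒯 M (S : Subgroup G) V F n ≤ A :=
  sSup_le (by rintro _ ⟨l, hl, x, hx, rfl⟩; exact hA l hl x hx)

omit [Finite G] h in
theorem mem_Gd {j : ℕ} (hj : j ≤ n) {g : G} (hg : ChT 𝒯 M (S : Subgroup G) (NOne.Flat.WW V F) j g) {P : Subgroup G}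
    (hP : P ∈ 𝒯) (hl : MulAut.conj g • zl (S : Subgroup G) P ≤ EE V F) :
    MulAut.conj g • zl (S : Subgroup G) P ∈ GdT 𝒯 M (S : Subgroup G) V F n :=
  ⟨j, hj, g, hg, P, hP, rfl, hl⟩

/-- a line of a chamber at distance `< n` -/
theorem mem_Gd_of_lt {j : ℕ} (hj : j < n) {g : G} (hg : ChT 𝒯 M (S : Subgroup G) (NOne.Flat.WW V F) j g)
    {P : Subgroup G} (hP : P ∈ 𝒯) :
    MulAut.conj g • zl (S : Subgroup G) P ∈ GdT 𝒯 M (S : Subgroup G) V F n :=
  mem_Gd hj.le hg hP (h.least j hj g hg P hP)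

omit [Finite G] h in
theorem conj_BB {y : G} (hy : y ∈ centralizer (F : Set G)) :
    MulAut.conj y • BBT 𝒯 M (S : Subgroup G) V F n = BBT 𝒯 M (S : Subgroup G) V F n := by
  have key : ∀ y ∈ centralizer (F : Set G),
      BBT 𝒯 M (S : Subgroup G) V F n ≤ MulAut.conj y • BBT 𝒯 M (S : Subgroup G) V F n := by
    intro y hy
    refine BB_le fun l hl x hx => ?_
    have h1 := le_BB hl (mul_mem (inv_mem hy) hx)
    have h2 := conj_le_iff (g := y).2 h1
    rwa [conj_conj, mul_inv_cancel_left] at h2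
  refine le_antisymm ?_ (key y hy)
  have h1 := conj_le_iff (g := y).2 (key y⁻¹ (inv_mem hy))
  rwa [conj_conj_inv] at h1

omit [Finite G] h in
/-- `X` normalises `B`. -/
theorem X_norm_B : centralizer (F : Set G) ≤ normalizer (BBT 𝒯 M (S : Subgroup G) V F n : Set G) := by
  intro y hy
  rw [mem_normalizer_iff]
  intro b
  constructor
  · intro hb
    rw [← conj_BB hy, mem_conj]
    simpa [mul_assoc] using hb
  · intro hb
    rw [← conj_BB hy, mem_conj] at hb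
    simpa [mul_assoc] using hb

omit [Finite G] h in
/-- `B ≤ W` -/
theorem B_le_W : BBT 𝒯 M (S : Subgroup G) V F n ≤ NOne.Flat.WW V F := by
  refine BB_le ?_
  rintro _ ⟨j, -, g, -, P, -, rfl, hl⟩ x hx
  exact (conj_le_iff.2 hl).trans (NOne.Flat.Hyp.conjE_le_W hx)

/-- `B` is abelian. -/
theorem B_comm : BBT 𝒯 M (S : Subgroup G) V F n ≤ centralizer (BBT 𝒯 M (S : Subgroup G) V F n : Set G) := by
  refine BB_le ?_
  rintro _ ⟨i, hi, g, hg, P, hP, rfl, hl⟩ x hx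
  refine comm_symm (BB_le ?_)
  rintro _ ⟨j, hj, g', hg', P', hP', rfl, hl'⟩ x' hx'
  refine comm_symm ?_
  have h1 := h.gal hi hj hg hg' hP hP' hl hl' (mul_mem (inv_mem hx') hx)
  have h2 := conj_le_centralizer (g := x') h1
  rwa [conj_conj, ← mul_assoc, mul_inv_cancel_left, ← conj_conj] at h2

theorem B_sq : ∀ b ∈ BBT 𝒯 M (S : Subgroup G) V F n, b ^ 2 = 1 := by
  let K : Subgroup G :=
    { carrier := {b | b ∈ BBT 𝒯 M (S : Subgroup G) V F n ∧ b ^ 2 = 1}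
      one_mem' := ⟨one_mem _, one_pow _⟩
      mul_mem' := by
        rintro a b ⟨ha, ha2⟩ ⟨hb, hb2⟩
        refine ⟨mul_mem ha hb, ?_⟩
        have hcm : Commute a b := (mem_centralizer_iff.1 (h.B_comm ha) b hb).symm
        rw [hcm.mul_pow, ha2, hb2, one_mul]
      inv_mem' := by
        rintro a ⟨ha, ha2⟩
        exact ⟨inv_mem ha, by rw [inv_pow, ha2, inv_one]⟩ }
  have h1 : BBT 𝒯 M (S : Subgroup G) V F n ≤ K := by
    refine BB_le fun l hl x hx => ?_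
    intro b hb
    refine ⟨le_BB hl hx hb, ?_⟩
    obtain ⟨j, -, g, -, P, -, rfl, hl'⟩ := hl
    rw [mem_conj] at hb
    have h2 := h.hyp.sq _ (hl' hb).1
    have e : b ^ 2 = x * (x⁻¹ * b * x) ^ 2 * x⁻¹ := by rw [pow_two, pow_two]; group
    rw [e, h2]; group
  exact fun b hb => (h1 hb).2

/-- `B ≤ S^g` for every chamber `g` at distance `≤ n`. -/
theorem B_le_conj {j : ℕ} (hj : j ≤ n) {g : G} (hg : ChT 𝒯 M (S : Subgroup G) (NOne.Flat.WW V F) j g) :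
    BBT 𝒯 M (S : Subgroup G) V F n ≤ MulAut.conj g • (S : Subgroup G) := by
  refine BB_le ?_
  rintro _ ⟨i, hi, g', hg', P, hP, rfl, hl⟩ x hx
  rw [conj_conj]
  exact h.gal_le_S hi hj hg' hg hP hl hx

/-- `B ≤ S` -/
theorem B_le_S : BBT 𝒯 M (S : Subgroup G) V F n ≤ (S : Subgroup G) := by
  have := h.B_le_conj le_rfl h.one
  rwa [map_one, one_smul] at this

/-- A subgroup of `W` which centralises `B` is contained in `S^g` for every chamber `g` at distance `≤ n`. -/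
theorem le_conj_of_cent {A : Subgroup G} (hA : A ≤ NOne.Flat.WW V F)
    (hAB : A ≤ centralizer (BBT 𝒯 M (S : Subgroup G) V F n : Set G)) :
    ∀ j ≤ n, ∀ g : G, ChT 𝒯 M (S : Subgroup G) (NOne.Flat.WW V F) j g → A ≤ MulAut.conj g • (S : Subgroup G) := by
  intro j
  induction j with
  | zero =>
    intro _ g hg
    exact hA.trans hg.zero_le
  | succ j ih =>
    intro hj g hg
    obtain ⟨P, hP, p, hp, g', hg', rfl⟩ := hg.last
    refine h.pass hP hp (ih (by omega) g' hg') ?_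
    exact comm_mono hAB le_rfl (le_BB' (h.mem_Gd_of_lt (by omega) hg' hP))

/-- `C_W(B) ≤ S` -/
theorem cent_le_S : NOne.Flat.WW V F ⊓ centralizer (BBT 𝒯 M (S : Subgroup G) V F n : Set G) ≤ (S : Subgroup G) := by
  have := h.le_conj_of_cent inf_le_left inf_le_right n le_rfl 1 h.one
  rwa [map_one, one_smul] at this

/-! ### (B1) -/

theorem B_norm_V : BBT 𝒯 M (S : Subgroup G) V F n ≤ normalizer (V : Set G) := B_le_W.trans h.hyp.W_norm_V

theorem V_norm_B : V ≤ normalizer (BBT 𝒯 M (S : Subgroup G) V F n : Set G) := h.hyp.V_le_X.trans X_norm_B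

/-- **(B1)** `[V, B] ≤ V ∩ B` -/
theorem comm_VB {v b : G} (hv : v ∈ V) (hb : b ∈ BBT 𝒯 M (S : Subgroup G) V F n) :
    c v b ∈ V ⊓ BBT 𝒯 M (S : Subgroup G) V F n := by
  refine ⟨h.hyp.c_memV hv (B_le_W hb), ?_⟩
  have h1 := (mem_normalizer_iff.1 (h.V_norm_B hv) b).1 hb
  have e : c v b = v * b * v⁻¹ * b⁻¹ := NOne.NearFF.c_def v b
  rw [e]
  exact (BBT 𝒯 M (S : Subgroup G) V F n).mul_mem h1 ((BBT 𝒯 M (S : Subgroup G) V F n).inv_mem hb)

/-- the adjacent chamber at distance `n - 1` -/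
theorem exists_adj {k : ℕ} (hn : n = k + 1) : ∃ R, R ∈ 𝒯 ∧ ∃ m ∈ R,
    ChT 𝒯 M (S : Subgroup G) (NOne.Flat.WW V F) k m := by
  have h1 := h.one
  rw [hn] at h1
  obtain ⟨R, hR, p, hp, g, hg, e⟩ := h1.last
  have e2 : g = p⁻¹ := eq_inv_of_mul_eq_one_left e.symm
  refine ⟨R, hR, p⁻¹, R.inv_mem hp, ?_⟩
  rwa [← e2]

end FrT


section sup

variable [Finite G] {𝒯 : Set (Subgroup G)} {S : Sylow 2 G} {M V F : Subgroup G} {n : ℕ}

omit [Finite G] in
/-- `B` centralises `F`. -/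
theorem FrT.B_cent_F : BBT 𝒯 M (S : Subgroup G) V F n ≤ centralizer (F : Set G) :=
  FrT.B_le_W.trans NOne.Flat.Hyp.W_le_X

theorem FrT.sup_comm (h : FrT 𝒯 S M V F n) : BBT 𝒯 M (S : Subgroup G) V F n ⊔ F ≤
    centralizer ((BBT 𝒯 M (S : Subgroup G) V F n ⊔ F : Subgroup G) : Set G) := by
  have hFF : F ≤ centralizer (F : Set G) := h.hyp.F_le_V.trans h.hyp.V_le_X
  refine sup_le (comm_symm (sup_le h.B_comm (comm_symm FrT.B_cent_F)))
    (comm_symm (sup_le FrT.B_cent_F hFF))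

theorem FrT.sup_sq (h : FrT 𝒯 S M V F n) : ∀ b ∈ BBT 𝒯 M (S : Subgroup G) V F n ⊔ F, b ^ 2 = 1 := by
  intro b hb
  have h1 : BBT 𝒯 M (S : Subgroup G) V F n ≤ normalizer (F : Set G) :=
    FrT.B_cent_F.trans (centralizer_le_normalizer _)
  rw [← SetLike.mem_coe, Subgroup.coe_mul_of_left_le_normalizer_right _ _ h1, Set.mem_mul] at hb
  obtain ⟨a, ha, f, hf, rfl⟩ := hb
  have hcm : Commute a f := (mem_centralizer_iff.1 (FrT.B_cent_F ha) f hf).symm
  rw [hcm.mul_pow, h.B_sq a ha, h.hyp.sq f (h.hyp.F_le_V hf), one_mul]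

omit [Finite G] in
theorem FrT.X_norm_sup : centralizer (F : Set G) ≤
    normalizer ((BBT 𝒯 M (S : Subgroup G) V F n ⊔ F : Subgroup G) : Set G) := by
  intro x hx
  have h1 : MulAut.conj x • (BBT 𝒯 M (S : Subgroup G) V F n ⊔ F) = BBT 𝒯 M (S : Subgroup G) V F n ⊔ F := by
    rw [Subgroup.smul_sup, FrT.conj_BB hx, NOne.Flat.conj_eq_of_cent hx]
  rw [mem_normalizer_iff]
  intro b
  constructor
  · intro hb
    rw [← h1, mem_conj]
    simpa [mul_assoc] using hb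
  · intro hb
    rw [← h1, mem_conj] at hb
    simpa [mul_assoc] using hb

end sup

/-- `B = ⟨good lines at distance ≤ n⟩ F` -/
abbrev BLT (𝒯 : Set (Subgroup G)) (M S V F : Subgroup G) (n : ℕ) : Subgroup G := BBT 𝒯 M S V F n ⊔ F

section fr

variable [Finite G] {𝒯 : Set (Subgroup G)} {S : Sylow 2 G} {P V F M : Subgroup G} {n : ℕ} (h : FrT 𝒯 S M V F n)
include h

theorem bhT : BH V F (BLT 𝒯 M (S : Subgroup G) V F n) where
  toHyp := h.hyp
  le_W := sup_le FrT.B_le_W (h.hyp.F_le_E.trans NOne.Flat.Hyp.E_le_W)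
  F_le := le_sup_right
  abel := h.sup_comm
  norm := FrT.X_norm_sup

/-- `F ≤ S^g` for the chambers at distance `≤ n`. -/
theorem F_le_conjT {j : ℕ} {g : G} (hg : ChT 𝒯 M (S : Subgroup G) (NOne.Flat.WW V F) j g) :
    F ≤ MulAut.conj g • (S : Subgroup G) := by
  obtain ⟨a, haM, haW, hag⟩ := hg
  induction hag with
  | zero => exact (h.hyp.F_le_E.trans NOne.Flat.Hyp.E_le_W).trans haW
  | @step k a' g' p P hg hP hp ih =>
    refine h.pass hP hp (ih haM haW) ?_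
    have h1 : (⟨a', haM, haW, hg⟩ : ChT 𝒯 M (S : Subgroup G) (NOne.Flat.WW V F) _ g') = ⟨a', haM, haW, hg⟩ := rfl
    have h2 : g' ∈ M := h.mem_M ⟨a', haM, haW, hg⟩
    have h3 : MulAut.conj g' • zl (S : Subgroup G) P ≤ V := h.line_le_V h2 hP
    exact h.hyp.F_le_V.trans (h.hyp.comm.trans (centralizer_le h3))

theorem BL_le_conjT {j : ℕ} (hj : j ≤ n) {g : G} (hg : ChT 𝒯 M (S : Subgroup G) (NOne.Flat.WW V F) j g) :
    BLT 𝒯 M (S : Subgroup G) V F n ≤ MulAut.conj g • (S : Subgroup G) :=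
  sup_le (h.B_le_conj hj hg) (F_le_conjT h hg)

/-- **(3)** for a bad line at distance `≤ n`. -/
theorem fr_threeT {j : ℕ} (hj : j ≤ n) {g : G} (hg : ChT 𝒯 M (S : Subgroup G) (NOne.Flat.WW V F) j g)
    (hP : P ∈ 𝒯) (hT : Tp (S : Subgroup G) P)
    (hUE : ¬ MulAut.conj g • zl (S : Subgroup G) P ≤ EE V F) :
    F.relIndex (V ⊓ BLT 𝒯 M (S : Subgroup G) V F n) ≤
      (EE V F).relIndex (MulAut.conj g • zl (S : Subgroup G) P) := by
  have hgM : g ∈ M := h.mem_M hg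
  have hgV := h.MV hgM
  have hgV' : g⁻¹ ∈ normalizer (V : Set G) := inv_mem hgV
  have eE : EE V (MulAut.conj g⁻¹ • F) = MulAut.conj g⁻¹ • EE V F := (EE_conj hgV').symm
  have h1 := three (S := S) (P := P) (F := MulAut.conj g⁻¹ • F)
    (B := MulAut.conj g⁻¹ • BLT 𝒯 M (S : Subgroup G) V F n) h.hc (h.TT _ hP) hT ((bhT h).conj hgV') ?_ ?_ (h.zl_le_V hP) ?_
  · have e1 : V ⊓ MulAut.conj g⁻¹ • BLT 𝒯 M (S : Subgroup G) V F n =
        MulAut.conj g⁻¹ • (V ⊓ BLT 𝒯 M (S : Subgroup G) V F n) := by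
      rw [Subgroup.smul_inf, conj_eq_of_norm hgV']
    have e2 : zl (S : Subgroup G) P = MulAut.conj g⁻¹ • (MulAut.conj g • zl (S : Subgroup G) P) := by
      rw [conj_conj, inv_mul_cancel, map_one, one_smul]
    rw [e1, eE, relIndex_pointwise_smul] at h1
    conv_rhs at h1 => rw [e2]
    rwa [relIndex_pointwise_smul] at h1
  · intro b hb
    rw [mem_conj] at hb
    have h2 := h.sup_sq _ hb
    rw [inv_inv] at h2
    have e : b ^ 2 = g⁻¹ * (g * b * g⁻¹) ^ 2 * g := by rw [pow_two, pow_two]; group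
    rw [e, h2]
    group
  · have h2 := conj_le_iff (g := g⁻¹).2 (BL_le_conjT h hj hg)
    rwa [conj_conj, inv_mul_cancel, map_one, one_smul] at h2
  · intro h2
    apply hUE
    rw [eE] at h2
    have h3 := conj_le_iff (g := g).2 h2
    rwa [conj_conj, mul_inv_cancel, map_one, one_smul] at h3

/-- `|I : F| ≤ |V : E|` -/
theorem fr_keyT {j : ℕ} (hj : j ≤ n) {g : G} (hg : ChT 𝒯 M (S : Subgroup G) (NOne.Flat.WW V F) j g)
    (hP : P ∈ 𝒯) (hT : Tp (S : Subgroup G) P)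
    (hUE : ¬ MulAut.conj g • zl (S : Subgroup G) P ≤ EE V F) :
    F.relIndex (V ⊓ BLT 𝒯 M (S : Subgroup G) V F n) ≤ (EE V F).relIndex V :=
  (fr_threeT h hj hg hP hT hUE).trans
    (relIndex_le_of_le_right (h.line_le_V (h.mem_M hg) hP) index_ne_zero_of_finite)

/-- `V = U E` for a bad line `U`. -/
theorem fr_spanT {j : ℕ} (hj : j ≤ n) {g : G} (hg : ChT 𝒯 M (S : Subgroup G) (NOne.Flat.WW V F) j g)
    (hP : P ∈ 𝒯) (hT : Tp (S : Subgroup G) P)
    (hUE : ¬ MulAut.conj g • zl (S : Subgroup G) P ≤ EE V F)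
    (hI : ¬ V ⊓ BLT 𝒯 M (S : Subgroup G) V F n ≤ F) {v : G} (hv : v ∈ V) :
    ∃ x ∈ MulAut.conj g • zl (S : Subgroup G) P, ∃ e ∈ EE V F, v = x * e := by
  have hcos : Cos id (MulAut.conj g • zl (S : Subgroup G) P) (EE V F) V (EE V F) :=
    ⟨fun u hu => h.line_le_V (h.mem_M hg) hP hu, fun _ _ _ _ => Iff.rfl⟩
  obtain ⟨x, hx, hxv⟩ := hcos.surj (((bhT h).relIndex_V_le hI).trans (fr_threeT h hj hg hP hT hUE)) hv
  exact ⟨x, hx, x⁻¹ * v, hxv, by group⟩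

end fr


section exists_front

/-- The elements of `⟨𝒯⟩` are reached by galleries. -/
theorem exists_galT {𝒯 : Set (Subgroup G)} {y : G} (hy : y ∈ sSup 𝒯) : ∃ k, Gal 𝒯 k 1 y := by
  have hy' : y ∈ ⨆ P : 𝒯, (P : Subgroup G) := by rwa [sSup_eq_iSup'] at hy
  refine Subgroup.iSup_induction (S := fun P : 𝒯 => (P : Subgroup G))
    (C := fun y => ∃ k, Gal 𝒯 k 1 y) hy' ?_ ?_ ?_
  · rintro ⟨P, hP⟩ p hp
    have := Gal.one (F := 𝒯) hP (g := 1) hp
    rw [one_mul] at this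
    exact ⟨1, this⟩
  · exact ⟨0, Gal.zero _⟩
  · rintro x y ⟨k, hk⟩ ⟨l, hl⟩
    have h1 := hl.mul_left x
    rw [mul_one] at h1
    exact ⟨k + l, hk.trans h1⟩

variable [Finite G]

/-- **The front exists**, for any frame `V`, `F` with `W_F ≤ S`, `⟨Z^M⟩ ≰ E`, `M = ⟨𝒯⟩`. -/
theorem exists_frT {S : Sylow 2 G} {𝒯 : Set (Subgroup G)} {M V F : Subgroup G}
    (hc : IsCharacteristicTwoType G) (hno : ¬ FF (S : Subgroup G)) (hyp : NOne.Flat.Hyp V F)
    (hTT : ∀ P ∈ 𝒯, IsParS (S : Subgroup G) P) (hne : 𝒯.Nonempty) (hPM : ∀ P ∈ 𝒯, P ≤ M) (hM : M ≤ sSup 𝒯)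
    (hMV : M ≤ normalizer (V : Set G)) (hZV : zc (S : Subgroup G) ≤ V)
    (hWS : NOne.Flat.WW V F ≤ (S : Subgroup G)) (hnE : ¬ zl (S : Subgroup G) M ≤ EE V F) :
    ∃ g ∈ M, ∃ (n : ℕ) (P : Subgroup G), FrT 𝒯 S M V (MulAut.conj g⁻¹ • F) n ∧ P ∈ 𝒯 ∧
      ¬ zl (S : Subgroup G) P ≤ EE V (MulAut.conj g⁻¹ • F) := by
  obtain ⟨P₀, hP₀⟩ := hne
  -- some chamber has a bad line
  have hex : ∃ n : ℕ, ∃ g, ChT 𝒯 M (S : Subgroup G) (NOne.Flat.WW V F) n g ∧
      ∃ P, P ∈ 𝒯 ∧ ¬ MulAut.conj g • zl (S : Subgroup G) P ≤ EE V F := by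
    by_contra hcon
    push Not at hcon
    apply hnE
    refine iSup_le fun y => ?_
    obtain ⟨k, hk⟩ := exists_galT (hM y.2)
    have h1 := hcon k y ⟨1, one_mem _, by rwa [map_one, one_smul], hk⟩ P₀ hP₀
    exact (conj_le_iff.2 (MinSimple.VModule.zc_le_zl (S : Subgroup G) P₀)).trans h1
  classical
  obtain ⟨g, hg, P, hP, hPE⟩ := Nat.find_spec hex
  have hmin := fun j (hj : j < Nat.find hex) => Nat.find_min hex hj
  set n := Nat.find hex with hn
  have hgM := hg.mem hPM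
  have hgV := hMV hgM
  have hgV' : g⁻¹ ∈ normalizer (V : Set G) := inv_mem hgV
  have eW : NOne.Flat.WW V (MulAut.conj g⁻¹ • F) = MulAut.conj g⁻¹ • NOne.Flat.WW V F :=
    (NOne.Flat.WW_conj hgV').symm
  have eE : EE V (MulAut.conj g⁻¹ • F) = MulAut.conj g⁻¹ • EE V F := (NOne.Flat.EE_conj hgV').symm
  -- chambers for `F^{g⁻¹}`
  have hCh : ∀ j x, ChT 𝒯 M (S : Subgroup G) (NOne.Flat.WW V (MulAut.conj g⁻¹ • F)) j x →
      ChT 𝒯 M (S : Subgroup G) (NOne.Flat.WW V F) j (g * x) := by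
    rintro j x ⟨a, ha, haW, hax⟩
    refine ⟨g * a, mul_mem hgM ha, ?_, hax.mul_left g⟩
    rw [eW] at haW
    have h1 := conj_le_iff (g := g).2 haW
    rwa [conj_conj, mul_inv_cancel, map_one, one_smul, conj_conj] at h1
  have hCh' : ChT 𝒯 M (S : Subgroup G) (NOne.Flat.WW V (MulAut.conj g⁻¹ • F)) n 1 := by
    obtain ⟨a, ha, haW, hag⟩ := hg
    refine ⟨g⁻¹ * a, mul_mem (inv_mem hgM) ha, ?_, ?_⟩
    · rw [eW, ← conj_conj]
      exact conj_le_iff.2 haW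
    · have := hag.mul_left g⁻¹
      rwa [inv_mul_cancel] at this
  have hbad : ¬ zl (S : Subgroup G) P ≤ EE V (MulAut.conj g⁻¹ • F) := by
    intro h1
    apply hPE
    rw [eE] at h1
    have h2 := conj_le_iff (g := g).2 h1
    rwa [conj_conj, mul_inv_cancel, map_one, one_smul] at h2
  refine ⟨g, hgM, n, P, ⟨hc, hno, hyp.conj hgV', hTT, hPM, hMV, hZV, ?_, hCh'⟩, hP, hbad⟩
  intro j hj x hx Q hQ
  by_contra hcon
  refine hmin j hj ⟨g * x, hCh j x hx, Q, hQ, fun h1 => hcon ?_⟩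
  rw [eE]
  have h2 := conj_le_iff (g := g⁻¹).2 h1
  rwa [conj_conj, inv_mul_cancel_left] at h2

end exists_front

end Cfsg.Agent.Omega.NO3S.Pas

end

section


/-!
# GammaFF, passive types: `n = 1` is impossible (helper793 #20445 (P1)), abstract form

`S ≤ P₀ ∩ P₂`; `L ≤ V` is `P₀`-invariant, `D ≤ V` is `P₂`-invariant (`L = V_{P₀}`, `D = V_{P₂}`); `W = WW V F ≤ S` moves `L`
(`P₀` is active) and centralises `D` (`P₂` is passive); `B ≤ W` is abelian, `L ≤ B`, `B ≰ N`, `I = (V ∩ B) F`.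

* `cov` : `V = D^p E` if `D^p ≰ E` (`p ∈ P₀`);
* `zero` : the lines `L^y`, `D^y` of a chamber `S^y ≥ W` lie in `I` (`y = h⁻¹ p`, `h ∈ P₂`, `p ∈ P₀`);
* `key` : `W^h ≤ S` (`h ∈ P₂`) centralises `L` or `ρ^h ∈ ρ^S`;
* `gen`, `Dgen` : `P₂ = ⟨a^{P₂}⟩ S` if `a ∈ S` moves `D`; `D ≤ X` if `X ≥ ρ^S` is `P₂`-invariant.

`PasB.le_EE` : `D^p ≤ E` for all `p ∈ P₀`.

Conjugation is on the left: `X^g` is `g X g⁻¹`.
-/

set_option autoImplicit false
set_option linter.unusedSectionVars false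

namespace Cfsg.Agent.Omega.NO3S.Pas

open Subgroup Cfsg Cfsg.Agent.Omega.NOne
open Cfsg.Agent.Omega.NOne.NearFF (c c_def)
open scoped Pointwise

universe u

variable {G : Type u} [Group G] [Finite G]

/-- `I = (V ∩ B) F` -/
abbrev II (V F B : Subgroup G) : Subgroup G := (V ⊓ B) ⊔ F

/-- The situation of (P1). -/
structure PasB (S P₀ P₂ V F B ρ L D : Subgroup G) : Prop where
  hyp : Flat.Hyp V F
  SP₀ : S ≤ P₀
  SP₂ : S ≤ P₂
  VP₀ : P₀ ≤ normalizer (V : Set G)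
  VP₂ : P₂ ≤ normalizer (V : Set G)
  LP₀ : P₀ ≤ normalizer (L : Set G)
  DP₂ : P₂ ≤ normalizer (D : Set G)
  LV : L ≤ V
  DV : D ≤ V
  /-- `S ∩ C(L) = O₂(P₀)` -/
  Q₀ : ∀ p ∈ P₀, ∀ q ∈ S, q ∈ centralizer (L : Set G) → p * q * p⁻¹ ∈ S
  /-- `S ∩ C(D) = O₂(P₂)` -/
  Q₂ : ∀ p ∈ P₂, ∀ q ∈ S, q ∈ centralizer (D : Set G) → p * q * p⁻¹ ∈ S
  WS : Flat.WW V F ≤ S
  mov : ¬ Flat.WW V F ≤ centralizer (L : Set G)
  pas : Flat.WW V F ≤ centralizer (D : Set G)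
  BW : B ≤ Flat.WW V F
  Bc : B ≤ centralizer (B : Set G)
  LB : L ≤ B
  BN : ¬ B ≤ Flat.NN V F
  cov : ∀ p ∈ P₀, ¬ MulAut.conj p • D ≤ Flat.EE V F → V ≤ MulAut.conj p • D ⊔ Flat.EE V F
  zero : ∀ h ∈ P₂, ∀ p ∈ P₀, (∀ w ∈ Flat.WW V F, (h⁻¹ * p)⁻¹ * w * (h⁻¹ * p) ∈ S) →
    MulAut.conj (h⁻¹ * p) • L ≤ II V F B ∧ MulAut.conj (h⁻¹ * p) • D ≤ II V F B
  ρL : ρ ≤ L
  key : ∀ h ∈ P₂, (∀ w ∈ Flat.WW V F, h * w * h⁻¹ ∈ S) → (∃ w ∈ Flat.WW V F, h * w * h⁻¹ ∉ centralizer (L : Set G)) →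
    ∃ s ∈ S, MulAut.conj h • ρ = MulAut.conj s • ρ
  gen : ∀ N : Subgroup G, N ≤ P₂ → P₂ ≤ normalizer (N : Set G) → ∀ a ∈ N, a ∈ S → a ∉ centralizer (D : Set G) →
    P₂ ≤ N ⊔ S
  Dgen : ∀ X : Subgroup G, (∀ s ∈ S, MulAut.conj s • ρ ≤ X) → P₂ ≤ normalizer (X : Set G) → D ≤ X

namespace PasB

variable {S P₀ P₂ V F B ρ L D : Subgroup G} (h : PasB S P₀ P₂ V F B ρ L D)
include h

theorem nm {P X : Subgroup G} (hP : P ≤ normalizer (X : Set G)) {g x : G} (hg : g ∈ P) (hx : x ∈ X) : g * x * g⁻¹ ∈ X :=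
  (mem_normalizer_iff.1 (hP hg) x).1 hx

theorem nm' {P X : Subgroup G} (hP : P ≤ normalizer (X : Set G)) {g x : G} (hg : g ∈ P) (hx : x ∈ X) :
    g⁻¹ * x * g ∈ X := by
  have := h.nm hP (inv_mem hg) hx
  rwa [inv_inv] at this

theorem D_le_F : D ≤ F := by
  rw [← h.hyp.cent_VW]
  exact le_inf h.DV (le_centralizer_iff.1 h.pas)

theorem II_le_V : II V F B ≤ V := sup_le inf_le_left h.hyp.F_le_V

/-- `B` centralises `I`. -/
theorem II_cent {b x : G} (hb : b ∈ B) (hx : x ∈ II V F B) : b * x = x * b := by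
  have h1 : II V F B ≤ centralizer ({b} : Set G) := by
    refine sup_le (fun y hy => ?_) fun y hy => ?_
    · rw [mem_centralizer_singleton_iff]
      exact (mem_centralizer_iff.1 (h.Bc hy.2) b hb).symm
    · rw [mem_centralizer_singleton_iff]
      exact Flat.Hyp.F_comm hy (Flat.Hyp.W_le_X (h.BW hb))
  exact (mem_centralizer_singleton_iff.1 (h1 hx)).symm

/-- `U₀ = L ⟨D^{P₀}⟩` -/
def UU (_h : PasB S P₀ P₂ V F B ρ L D) : Subgroup G := L ⊔ ⨆ p : P₀, MulAut.conj (p : G) • D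

theorem L_le_UU : L ≤ h.UU := le_sup_left

theorem conj_le_UU {p : G} (hp : p ∈ P₀) : MulAut.conj p • D ≤ h.UU :=
  (le_iSup (fun p : P₀ => MulAut.conj (p : G) • D) ⟨p, hp⟩).trans le_sup_right

theorem D_le_UU : D ≤ h.UU := by
  have := h.conj_le_UU (one_mem P₀)
  rwa [map_one, one_smul] at this

theorem UU_le {X : Subgroup G} (h1 : L ≤ X) (h2 : ∀ p ∈ P₀, MulAut.conj p • D ≤ X) : h.UU ≤ X :=
  sup_le h1 (iSup_le fun p => h2 p p.2)

theorem conj_V {g : G} {P : Subgroup G} (hP : P ≤ normalizer (V : Set G)) (hg : g ∈ P) : MulAut.conj g • V = V :=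
  Flat.conj_eq_of_norm (hP hg)

theorem UU_le_V : h.UU ≤ V := by
  refine h.UU_le h.LV fun p hp => ?_
  have h1 := NoFF.Basic.conj_le_iff (g := p) |>.2 h.DV
  rwa [h.conj_V h.VP₀ hp] at h1

/-- `P₀` normalises `U₀`. -/
theorem conj_UU_le {g : G} (hg : g ∈ P₀) : MulAut.conj g • h.UU ≤ h.UU := by
  have h1 : h.UU ≤ MulAut.conj g⁻¹ • h.UU := by
    refine h.UU_le ?_ fun p hp => ?_
    · have h2 := NoFF.Basic.conj_le_iff (g := g⁻¹) |>.2 h.L_le_UU
      rwa [Flat.conj_eq_of_norm (h.LP₀ (inv_mem hg))] at h2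
    · have h2 := NoFF.Basic.conj_le_iff (g := g⁻¹) |>.2 (h.conj_le_UU (mul_mem hg hp))
      rwa [NoFF.Basic.conj_conj, inv_mul_cancel_left] at h2
  have h3 := NoFF.Basic.conj_le_iff (g := g) |>.2 h1
  rwa [NoFF.Basic.conj_conj, mul_inv_cancel, map_one, one_smul] at h3

theorem UU_norm {g u : G} (hg : g ∈ P₀) (hu : u ∈ h.UU) : g * u * g⁻¹ ∈ h.UU :=
  h.conj_UU_le hg (Cfsg.Agent.Omega.NOne.Frame.conj_mem (g := g) hu)

theorem L_le_EE : L ≤ Flat.EE V F :=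
  le_inf h.LV (h.LB.trans (h.BW.trans Flat.Hyp.W_le_R))

theorem DD_le_V {p : G} (hp : p ∈ P₀) : MulAut.conj p • D ≤ V := (h.conj_le_UU hp).trans h.UU_le_V

/-- `V = U₀ F`, if there is a bad `D^p`. -/
theorem V_le {p w : G} (hp : p ∈ P₀) (hw : w ∈ MulAut.conj p • D) (hwE : w ∉ Flat.EE V F) : V ≤ h.UU ⊔ F := by
  have h1 : Flat.EE V F ≤ h.UU ⊔ F := by
    intro e he
    obtain ⟨s, hs, hse⟩ := h.hyp.surj (h.DD_le_V hp hw) hwE he
    have hwU : w ∈ h.UU := h.conj_le_UU hp hw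
    have h2 : c w s ∈ h.UU := by
      have h3 := mul_mem hwU (h.UU_norm (h.SP₀ (h.WS hs)) (inv_mem hwU))
      have e1 : w * (s * w⁻¹ * s⁻¹) = c w s := by rw [c_def]; group
      rwa [e1] at h3
    have e2 : e = (c w s * e⁻¹)⁻¹ * c w s := by group
    rw [e2]
    exact mul_mem (inv_mem (le_sup_right (a := h.UU) hse)) (le_sup_left (b := F) h2)
  refine (h.cov p hp fun h2 => hwE (h2 hw)).trans (sup_le ?_ h1)
  exact (h.conj_le_UU hp).trans le_sup_left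

/-- (c) -/
theorem UU_le_conj {g : G} (hg : g ∈ P₂)
    (hW : ∀ w ∈ Flat.WW V F, g * w * g⁻¹ ∈ S ∧ g * w * g⁻¹ ∈ centralizer (L : Set G)) :
    h.UU ≤ MulAut.conj g • II V F B := by
  have key : ∀ p ∈ P₀, MulAut.conj (g⁻¹ * p) • L ≤ II V F B ∧ MulAut.conj (g⁻¹ * p) • D ≤ II V F B := by
    intro p hp
    refine h.zero g hg p hp fun w hw => ?_
    have h1 := h.Q₀ p⁻¹ (inv_mem hp) _ (hW w hw).1 (hW w hw).2
    have e : p⁻¹ * (g * w * g⁻¹) * p⁻¹⁻¹ = (g⁻¹ * p)⁻¹ * w * (g⁻¹ * p) := by group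
    rwa [e] at h1
  have tr : ∀ X : Subgroup G, MulAut.conj g⁻¹ • X ≤ II V F B → X ≤ MulAut.conj g • II V F B := by
    intro X hX
    have h1 := NoFF.Basic.conj_le_iff (g := g) |>.2 hX
    rwa [NoFF.Basic.conj_conj, mul_inv_cancel, map_one, one_smul] at h1
  refine h.UU_le (tr _ ?_) fun p hp => tr _ ?_
  · have h1 := (key 1 (one_mem _)).1
    rwa [mul_one] at h1
  · have h1 := (key p hp).2
    rwa [← NoFF.Basic.conj_conj] at h1

theorem B_cent_L {b : G} (hb : b ∈ B) : b ∈ centralizer (L : Set G) := by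
  rw [mem_centralizer_iff]
  exact fun l hl => mem_centralizer_iff.1 (h.Bc hb) l (h.LB hl)

theorem a_mem {p b : G} (hp : p ∈ P₀) (hb : b ∈ B) : p⁻¹ * b * p ∈ S := by
  have h1 := h.Q₀ p⁻¹ (inv_mem hp) b (h.WS (h.BW hb)) (h.B_cent_L hb)
  rwa [inv_inv] at h1

/-- (d) -/
theorem cent_D (hV : V ≤ h.UU ⊔ F) {p b g : G} (hp : p ∈ P₀) (hb : b ∈ B) (hg : g ∈ P₂)
    (hW : ∀ w ∈ Flat.WW V F, g * (p⁻¹ * b * p) * g⁻¹ * w * (g * (p⁻¹ * b * p) * g⁻¹)⁻¹ ∈ S ∧
      g * (p⁻¹ * b * p) * g⁻¹ * w * (g * (p⁻¹ * b * p) * g⁻¹)⁻¹ ∈ centralizer (L : Set G)) :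
    p⁻¹ * b * p ∈ centralizer (D : Set G) := by
  set a : G := p⁻¹ * b * p with ha
  have haS : a ∈ S := h.a_mem hp hb
  have hag : g * a * g⁻¹ ∈ P₂ := mul_mem (mul_mem hg (h.SP₂ haS)) (inv_mem hg)
  have h1 := h.UU_le_conj hag hW
  set U' : Subgroup G := MulAut.conj g⁻¹ • h.UU with hU'
  set I' : Subgroup G := MulAut.conj g⁻¹ • II V F B with hI'
  have hUI : U' ≤ MulAut.conj a • I' := by
    have h2 := NoFF.Basic.conj_le_iff (g := g⁻¹) |>.2 h1
    rw [hI', NoFF.Basic.conj_conj]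
    rw [NoFF.Basic.conj_conj] at h2
    have e : g⁻¹ * (g * a * g⁻¹) = a * g⁻¹ := by group
    rwa [e] at h2
  -- `C_{U'}(a) ≤ I'`
  have hC : U' ⊓ centralizer ({a} : Set G) ≤ U' ⊓ I' := by
    rintro x ⟨hx1, hx2⟩
    refine ⟨hx1, ?_⟩
    have h3 := NoFF.Basic.mem_conj.1 (hUI hx1)
    have h4 := mem_centralizer_singleton_iff.1 hx2
    have e : a⁻¹ * x * a = x := by rw [mul_assoc, h4, inv_mul_cancel_left]
    rwa [e] at h3
  have hV' : V ≤ U' ⊔ I' := by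
    have h3 := NoFF.Basic.conj_le_iff (g := g⁻¹) |>.2 (hV.trans (sup_le_sup_left (le_sup_right : F ≤ II V F B) _))
    rwa [h.conj_V h.VP₂ (inv_mem hg), Choice.conj_sup] at h3
  have hU'V : U' ≤ V := by
    have h3 := NoFF.Basic.conj_le_iff (g := g⁻¹) |>.2 h.UU_le_V
    rwa [h.conj_V h.VP₂ (inv_mem hg)] at h3
  have hI'V : I' ≤ V := by
    have h3 := NoFF.Basic.conj_le_iff (g := g⁻¹) |>.2 h.II_le_V
    rwa [h.conj_V h.VP₂ (inv_mem hg)] at h3
  have hVeq : U' ⊔ I' = V := le_antisymm (sup_le hU'V hI'V) hV'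
  -- the indices
  have hab : (V ⊓ centralizer ({a} : Set G) : Subgroup G) = MulAut.conj p⁻¹ • (V ⊓ centralizer ({b} : Set G)) := by
    ext x
    rw [NoFF.Basic.mem_conj, mem_inf, mem_inf, mem_centralizer_singleton_iff, mem_centralizer_singleton_iff,
      inv_inv]
    constructor
    · rintro ⟨hx1, hx2⟩
      refine ⟨h.nm h.VP₀ hp hx1, ?_⟩
      calc p * x * p⁻¹ * b = p * (x * a) * p⁻¹ := by rw [ha]; group
        _ = p * (a * x) * p⁻¹ := by rw [hx2]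
        _ = b * (p * x * p⁻¹) := by rw [ha]; group
    · rintro ⟨hx1, hx2⟩
      refine ⟨?_, ?_⟩
      · have h3 := h.nm' h.VP₀ hp hx1
        have e : p⁻¹ * (p * x * p⁻¹) * p = x := by group
        rwa [e] at h3
      · calc x * a = p⁻¹ * (p * x * p⁻¹ * b) * p := by rw [ha]; group
          _ = p⁻¹ * (b * (p * x * p⁻¹)) * p := by rw [hx2]
          _ = a * x := by rw [ha]; group
  have c1 : Nat.card (V ⊓ centralizer ({a} : Set G) : Subgroup G) =
      Nat.card (V ⊓ centralizer ({b} : Set G) : Subgroup G) := by rw [hab, Choice.card_conj]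
  have c2 : Nat.card (II V F B) ≤ Nat.card (V ⊓ centralizer ({b} : Set G) : Subgroup G) := by
    refine Subgroup.card_le_of_le (le_inf h.II_le_V fun x hx => ?_)
    exact mem_centralizer_singleton_iff.2 (h.II_cent hb hx).symm
  have c3 : Nat.card I' = Nat.card (II V F B) := by rw [hI', Choice.card_conj]
  have r1 : (centralizer ({a} : Set G)).relIndex V ≤ I'.relIndex V := by
    have e1 := Flat.card_mul_relIndex' (inf_le_left : V ⊓ centralizer ({a} : Set G) ≤ V)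
    have e2 := Flat.card_mul_relIndex' hI'V
    rw [inf_relIndex_left] at e1
    have e3 : 0 < Nat.card (V ⊓ centralizer ({a} : Set G) : Subgroup G) := Nat.card_pos
    refine Nat.le_of_mul_le_mul_left ?_ e3
    rw [e1, ← e2]
    exact Nat.mul_le_mul_right _ (by rw [c3, c1]; exact c2)
  have r2 : (centralizer ({a} : Set G)).relIndex U' ≤ (centralizer ({a} : Set G)).relIndex V :=
    relIndex_le_of_le_right hU'V index_ne_zero_of_finite
  have r3 : I'.relIndex V = I'.relIndex U' := by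
    have hn : U' ≤ normalizer (I' : Set G) := by
      refine le_trans ?_ (centralizer_le_normalizer _)
      intro x hx
      rw [mem_centralizer_iff]
      exact fun y hy => h.hyp.V_comm (hI'V hy) (hU'V hx)
    rw [← hVeq]
    have e1 := Flat.Off.card_sup_mul_inf hn
    have e2 := Flat.card_mul_relIndex' (le_sup_right : I' ≤ U' ⊔ I')
    have e3 := Flat.card_mul_relIndex' (inf_le_left : U' ⊓ I' ≤ U')
    rw [inf_relIndex_left] at e3
    have p1 : 0 < Nat.card (U' ⊓ I' : Subgroup G) := Nat.card_pos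
    have p2 : 0 < Nat.card I' := Nat.card_pos
    refine Nat.eq_of_mul_eq_mul_left (Nat.mul_pos p1 p2) ?_
    calc Nat.card (U' ⊓ I' : Subgroup G) * Nat.card I' * I'.relIndex (U' ⊔ I')
        = Nat.card (U' ⊓ I' : Subgroup G) * (Nat.card I' * I'.relIndex (U' ⊔ I')) := by ring
      _ = Nat.card (U' ⊓ I' : Subgroup G) * Nat.card (U' ⊔ I' : Subgroup G) := by rw [e2]
      _ = Nat.card (U' ⊔ I' : Subgroup G) * Nat.card (U' ⊓ I' : Subgroup G) := by ring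
      _ = Nat.card U' * Nat.card I' := e1
      _ = Nat.card (U' ⊓ I' : Subgroup G) * I'.relIndex U' * Nat.card I' := by rw [e3]
      _ = Nat.card (U' ⊓ I' : Subgroup G) * Nat.card I' * I'.relIndex U' := by ring
  have r4 : (centralizer ({a} : Set G)).relIndex U' ≤ I'.relIndex U' := by
    rw [← r3]; exact r2.trans r1
  have r5 : Nat.card (U' ⊓ I' : Subgroup G) ≤ Nat.card (U' ⊓ centralizer ({a} : Set G) : Subgroup G) := by
    have e1 := Flat.card_mul_relIndex' (inf_le_left : U' ⊓ centralizer ({a} : Set G) ≤ U')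
    have e2 := Flat.card_mul_relIndex' (inf_le_left : U' ⊓ I' ≤ U')
    rw [inf_relIndex_left] at e1 e2
    have e3 : 0 < I'.relIndex U' := Nat.pos_of_ne_zero index_ne_zero_of_finite
    refine Nat.le_of_mul_le_mul_right ?_ e3
    rw [e2, ← e1]
    exact Nat.mul_le_mul_left _ r4
  have hE := Subgroup.eq_of_le_of_card_ge hC r5
  have hD1 : MulAut.conj g⁻¹ • D = D := Flat.conj_eq_of_norm (h.DP₂ (inv_mem hg))
  have hD2 : D ≤ U' ⊓ I' := by
    refine le_inf ?_ ?_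
    · have h3 := NoFF.Basic.conj_le_iff (g := g⁻¹) |>.2 h.D_le_UU
      rwa [hD1] at h3
    · have h3 := NoFF.Basic.conj_le_iff (g := g⁻¹) |>.2 (h.D_le_F.trans (le_sup_right : F ≤ II V F B))
      rwa [hD1] at h3
  rw [← hE] at hD2
  rw [mem_centralizer_iff]
  exact fun d hd => mem_centralizer_singleton_iff.1 (hD2 hd).2

theorem mem_norm_of_le {X : Subgroup G} {x : G} (hx : MulAut.conj x • X ≤ X) : x ∈ normalizer (X : Set G) := by
  have h1 : MulAut.conj x • X = X := Subgroup.eq_of_le_of_card_ge hx (by rw [Choice.card_conj])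
  rw [mem_normalizer_iff]
  intro y
  constructor
  · intro hy
    have := NOne.Frame.conj_mem (g := x) hy
    rwa [h1] at this
  · intro hy
    rw [← h1, NoFF.Basic.mem_conj] at hy
    have e : x⁻¹ * (x * y * x⁻¹) * x = y := by group
    rwa [e] at hy

/-- **(P1)** -/
theorem le_EE {p : G} (hp : p ∈ P₀) : MulAut.conj p • D ≤ Flat.EE V F := by
  by_contra hne
  obtain ⟨w, hw, hwE⟩ := Set.not_subset.1 hne
  have hV := h.V_le hp hw hwE
  have hwV : w ∈ V := h.DD_le_V hp hw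
  -- `b ∈ B` moves `w`
  obtain ⟨b, hb, hbN⟩ := Set.not_subset.1 h.BN
  have hcw : c w b ∉ F := fun h1 => hbN ((h.hyp.c_mem_F_iff hwV hwE (h.BW hb)).1 h1)
  set a : G := p⁻¹ * b * p with ha
  have haS : a ∈ S := h.a_mem hp hb
  have haD : a ∉ centralizer (D : Set G) := by
    intro h1
    apply hcw
    have h2 : p⁻¹ * w * p ∈ D := NoFF.Basic.mem_conj.1 hw
    have h3 := mem_centralizer_iff.1 h1 _ h2
    have h4 : w * b = b * w := by
      calc w * b = p * (p⁻¹ * w * p * a) * p⁻¹ := by rw [ha]; group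
        _ = p * (a * (p⁻¹ * w * p)) * p⁻¹ := by rw [h3]
        _ = b * w := by rw [ha]; group
    rw [c_def, h4, mul_inv_cancel_right, mul_inv_cancel]
    exact one_mem _
  -- (e)
  have hkey : ∀ g ∈ P₂, ∃ s ∈ S, MulAut.conj (g * a * g⁻¹) • ρ = MulAut.conj s • ρ := by
    intro g hg
    have hag : g * a * g⁻¹ ∈ P₂ := mul_mem (mul_mem hg (h.SP₂ haS)) (inv_mem hg)
    have hW1 : ∀ w ∈ Flat.WW V F, g * a * g⁻¹ * w * (g * a * g⁻¹)⁻¹ ∈ S := fun w hw =>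
      h.Q₂ _ hag w (h.WS hw) (h.pas hw)
    refine h.key _ hag hW1 ?_
    by_contra hno
    push Not at hno
    exact haD (h.cent_D hV hp hb hg fun w hw => ⟨hW1 w hw, hno w hw⟩)
  set X : Subgroup G := ⨆ s : S, MulAut.conj (s : G) • ρ with hX
  have hsX : ∀ s ∈ S, MulAut.conj s • ρ ≤ X := fun s hs =>
    le_iSup (fun s : S => MulAut.conj (s : G) • ρ) ⟨s, hs⟩
  have hSX : S ≤ normalizer (X : Set G) := by
    intro t ht
    apply h.mem_norm_of_le
    have h1 : X ≤ MulAut.conj t⁻¹ • X := by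
      refine iSup_le fun s => ?_
      have h2 := NoFF.Basic.conj_le_iff (g := t⁻¹) |>.2 (hsX _ (mul_mem ht s.2))
      rwa [NoFF.Basic.conj_conj, inv_mul_cancel_left] at h2
    have h2 := NoFF.Basic.conj_le_iff (g := t) |>.2 h1
    rwa [NoFF.Basic.conj_conj, mul_inv_cancel, map_one, one_smul] at h2
  set N : Subgroup G := closure {x | ∃ g ∈ P₂, x = g * a * g⁻¹} with hN
  have hNP : N ≤ P₂ := by
    rw [hN, closure_le]
    rintro _ ⟨g, hg, rfl⟩
    exact mul_mem (mul_mem hg (h.SP₂ haS)) (inv_mem hg)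
  have hNX : N ≤ normalizer (X : Set G) := by
    rw [hN, closure_le]
    rintro _ ⟨g, hg, rfl⟩
    apply h.mem_norm_of_le
    have h1 : X ≤ MulAut.conj (g * a * g⁻¹)⁻¹ • X := by
      refine iSup_le fun s => ?_
      obtain ⟨t, ht, hst⟩ := hkey ((s : G)⁻¹ * g) (mul_mem (inv_mem (h.SP₂ s.2)) hg)
      have h2 := hsX _ (mul_mem s.2 ht)
      rw [← NoFF.Basic.conj_conj, ← hst, NoFF.Basic.conj_conj] at h2
      have h3 := NoFF.Basic.conj_le_iff (g := (g * a * g⁻¹)⁻¹) |>.2 h2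
      rw [NoFF.Basic.conj_conj] at h3
      have e : (g * a * g⁻¹)⁻¹ * ((s : G) * ((s : G)⁻¹ * g * a * ((s : G)⁻¹ * g)⁻¹)) = s := by group
      rwa [e] at h3
    have h2 := NoFF.Basic.conj_le_iff (g := g * a * g⁻¹) |>.2 h1
    rwa [NoFF.Basic.conj_conj, mul_inv_cancel, map_one, one_smul] at h2
  have hPN : P₂ ≤ normalizer (N : Set G) := by
    intro g hg
    apply h.mem_norm_of_le
    have h1 : N ≤ MulAut.conj g⁻¹ • N := by
      rw [hN, closure_le]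
      rintro _ ⟨k, hk, rfl⟩
      rw [SetLike.mem_coe, NoFF.Basic.mem_conj]
      refine subset_closure ⟨g * k, mul_mem hg hk, by group⟩
    have h2 := NoFF.Basic.conj_le_iff (g := g) |>.2 h1
    rwa [NoFF.Basic.conj_conj, mul_inv_cancel, map_one, one_smul] at h2
  have haN : a ∈ N := subset_closure ⟨1, one_mem _, by group⟩
  have hPX : P₂ ≤ normalizer (X : Set G) := (h.gen N hNP hPN a haN haS haD).trans (sup_le hNX hSX)
  have hDX := h.Dgen X hsX hPX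
  have hXL : X ≤ L := by
    refine iSup_le fun s => ?_
    have h1 := NoFF.Basic.conj_le_iff (g := (s : G)) |>.2 h.ρL
    rwa [Flat.conj_eq_of_norm (h.LP₀ (h.SP₀ s.2))] at h1
  apply hne
  have h1 := NoFF.Basic.conj_le_iff (g := p) |>.2 (hDX.trans hXL)
  rw [Flat.conj_eq_of_norm (h.LP₀ hp)] at h1
  exact h1.trans h.L_le_EE

end PasB

end Cfsg.Agent.Omega.NO3S.Pas

end
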