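import Cfsg.Agent.Mrg.Omega.NOThreeL.Low.SitTwo
import Cfsg.Agent.Mrg.Omega.NOThreeL.NF.Nat
import Cfsg.Agent.Mrg.Omega.NOThreeL.Low.Dich

section


/-!
# GammaFF: `|V : E| = |I : F|`, the KEY for galleries of length `≥ 1` (helper876 #19093 (3), (4))

`BH V F B` : `F ≤ B ≤ W`, `B` abelian, normalised by `C_G(F)`, `I = V ∩ B`; `B ≤ S`; `U = V_P ≤ V` a bad line (`U ≰ E`) with
`U` of type natural^k or `S_n^k` (`Tp S P`).

* `three` : `|I : F| ≤ |U : U ∩ E|`;
* `three_of_ff` : the same, if `C_Z(P) = 1` and `V_P ≤ O₂(C_G(Z))`;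
* `sup_eq` : `V = U E`; `relIndex_eq` : `|V : E| = |I : F|`.
-/

set_option autoImplicit false
set_option linter.unusedSectionVars false

namespace Cfsg.Agent.Omega.NO3S.Pas

open Subgroup Cfsg Cfsg.Agent.ZN Cfsg.Agent.Omega.MinPar Cfsg.Agent.Omega.Frame Cfsg.Agent.Omega.FrameNOFF
open Cfsg.Agent.Omega.NOne.Flat (Hyp EE WW NN BadX Cos card_mul_relIndex')
open Cfsg.Agent.Omega.NOne.NearFF (c)
open Cfsg.Agent.Omega.FFThm (NatK NatKM SymKM ActsSL OffM)
open Cfsg.Agent.Omega.Half (Amb amb_of_loc)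
open Cfsg.Agent.Omega.Half.NatA (inj eq_one e_one e_inv Mv)
open Cfsg.Agent.Omega.NO1.NSix
open Cfsg.Agent.Omega.NatPair (ap ext2 ap_zero' ap_one' exists_ap ap_one)
open Cfsg.Agent.Lib.SL2Mat
open Cfsg.Agent.Omega.NOThreeL.Low (Tp Blk)
open Cfsg.Agent.Omega.NOThreeL.Low.Key (BH)
open Cfsg.Agent.Omega.NOThreeL.Low.PSeven (blk_em em_blk blk_mul blk_inv blk_ext)
open scoped Pointwise

universe u

variable {G : Type u} [Group G] [Finite G] {S : Sylow 2 G} {P V F B : Subgroup G}

/-- The input of P7 from a failure of `|I : F| ≤ 2`. -/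
theorem qb (bh : BH V F B) (hsq : ∀ b ∈ B, b ^ 2 = 1) (hBS : B ≤ (S : Subgroup G))
    (hUV : zl (S : Subgroup G) P ≤ V) (h2 : 2 < F.relIndex (V ⊓ B)) :
    NOThreeL.Low.Nat.QB (S : Subgroup G) (zl (S : Subgroup G) P) B (EE V F) where
  BS := hBS
  ab := fun _ hb _ hc => bh.B_comm hb hc
  sq := fun b hb => by rw [← pow_two]; exact hsq b hb
  quad := fun v hv b hb c' hc => by
    have h1 := bh.quad (hUV hv) hb hc
    have h2 : b * v * b⁻¹ * v⁻¹ = (c v b)⁻¹ := by rw [c]; group
    rw [h2]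
    calc c' * (c v b)⁻¹ = (c v b)⁻¹ * (c v b * c') * (c v b)⁻¹ := by group
      _ = (c v b)⁻¹ * (c' * c v b) * (c v b)⁻¹ := by rw [h1]
      _ = (c v b)⁻¹ * c' := by group
  t1 := fun w hw hwE hall => absurd h2 (not_lt.2 (bh.relIndex_le_two (hUV hw) hwE hall))

/-- **(3)** -/
theorem three (hc : IsCharacteristicTwoType G) (hP : IsParS (S : Subgroup G) P) (hT : Tp (S : Subgroup G) P)
    (bh : BH V F B) (hsq : ∀ b ∈ B, b ^ 2 = 1) (hBS : B ≤ (S : Subgroup G)) (hUV : zl (S : Subgroup G) P ≤ V)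
    (hUE : ¬ zl (S : Subgroup G) P ≤ EE V F) :
    F.relIndex (V ⊓ B) ≤ (EE V F).relIndex (zl (S : Subgroup G) P) := by
  by_contra hlt
  push Not at hlt
  have h0 : (EE V F).relIndex (zl (S : Subgroup G) P) ≠ 0 := index_ne_zero_of_finite
  have h1 : (EE V F).relIndex (zl (S : Subgroup G) P) ≠ 1 := fun h1 => hUE (relIndex_eq_one.1 h1)
  have h2 : 2 < F.relIndex (V ⊓ B) := by omega
  have hQ := qb (P := P) bh hsq hBS hUV h2
  have hI : ¬ V ⊓ B ≤ F := fun h => by
    rw [relIndex_eq_one.2 h] at h2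
    omega
  rcases hT with ⟨K, fK, fiK, cK, k, hk, ⟨N⟩⟩ | ⟨k, m, hk, hm, ⟨M⟩⟩
  · have hA : Amb (S : Subgroup G) P (zl (S : Subgroup G) P) := amb_of_loc hc S hP.toIsPar.isLoc
    -- a bad block
    obtain ⟨i, w, hw, hwE⟩ : ∃ i : Fin k, ∃ w, Blk N i w ∧ w ∉ EE V F := by
      by_contra hall
      push Not at hall
      exact hUE fun v hv => mem_of_em N.toNatK hv fun j => hall j _ (em_blk N j _)
    have hi : NOThreeL.Low.Nat.Bad N.toNatK (EE V F) i := by
      refine ⟨N.e w i, ?_⟩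
      rwa [blk_em N hw]
    have hact : ∀ b ∈ B, ∃ x : K, ∀ v, Blk N i v →
        Blk N i (b * v * b⁻¹) ∧ N.e (b * v * b⁻¹) i = ap (up x) (N.e v i) := by
      intro b hb
      obtain ⟨x, hx⟩ := hQ.exists_up hA hi hb
      refine ⟨x, fun v hv => ⟨⟨hA.conj_mem (hQ.BP hA hb) hv.1, fun j hj => ?_⟩, hx v hv.1⟩⟩
      obtain ⟨σ, hσ⟩ := N.perm b (hQ.BP hA hb)
      have hσi : σ i = i := hQ.fix hA hi hb hσ
      have h1 := (hσ v hv.1 (σ.symm j)).2 (hv.2 _ fun h2 => hj (by rw [← hσi, ← h2, σ.apply_symm_apply]))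
      rwa [σ.apply_symm_apply] at h1
    classical
    choose x hx using hact
    have act : NOThreeL.Low.PSeven.Act N B i (fun b => if hb : b ∈ B then x b hb else 0) := by
      intro b hb v hv
      have h1 := hx b hb v hv
      simp only [dif_pos hb]
      exact h1
    set β : G → K := fun b => if hb : b ∈ B then x b hb else 0 with hβ
    obtain ⟨b₀, hb₀, hb₀N⟩ := bh.exists_not_mem_NN hI
    have hβ0 : β b₀ ≠ 0 := by
      intro h3
      refine hb₀N (bh.mem_NN_of_c (hUV hw.1) hwE hb₀ ?_)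
      rw [act.c_eq_one hb₀ hw (by rw [h3, zero_mul])]
      exact one_mem F
    -- `w' ↦ [w', b₀] F` maps `U` onto `I / F`
    have hcos : Cos (fun w' => c w' b₀) (zl (S : Subgroup G) P) (EE V F) (V ⊓ B) F :=
      ⟨fun u hu => bh.c_memI (hUV hu) hb₀, fun u hu u' hu' => (bh.cos_V hb₀ hb₀N).iff u (hUV hu) u' (hUV hu')⟩
    have hs : (EE V F).relIndex (zl (S : Subgroup G) P) = F.relIndex (V ⊓ B) := by
      refine hcos.eq_of_surj fun y hy => ?_
      obtain ⟨b, hb, hby⟩ := bh.surj (hUV hw.1) hwE hy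
      have hw' := em_blk N i ![0, β b * N.e w i 1 / β b₀]
      refine ⟨em N.toNatK i ![0, β b * N.e w i 1 / β b₀], hw'.1, ?_⟩
      have h3 : c (em N.toNatK i ![0, β b * N.e w i 1 / β b₀]) b₀ = c w b := by
        refine blk_ext (act.c_blk hb₀ hw') (act.c_blk hb hw) ?_ ?_
        · rw [act.c_zero hb₀ hw', act.c_zero hb hw, e_em_self]
          change β b₀ * (β b * N.e w i 1 / β b₀) = β b * N.e w i 1
          field_simp
        · rw [act.c_one hb₀ hw', act.c_one hb hw]
      change (c (em N.toNatK i ![0, β b * N.e w i 1 / β b₀]) b₀)⁻¹ * y ∈ F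
      rw [h3]
      exact hby
    omega
  · refine hUE (NOThreeL.Low.SymCase.le_of_t1 M.toSymK hP.le (MinSimple.VModule.le_normalizer_zl _ _) hBS ?_ ?_)
    · exact fun w hw b hb b' hb' => hQ.quad w hw b hb b' hb'
    · exact fun w hw hwE h1 => hQ.t1 w hw hwE h1

end Cfsg.Agent.Omega.NO3S.Pas

end

section


/-!
# GammaFF (S5), helper75 #22081: the lemma (alpha) of the cut of helper31 (#23010)

`BH V F B`, `B ≤ S`, `L = V_P ≤ V` a bad line of type natural `SL₂(K)^k`, `|K| ≥ 4`, `|K| ≤ |I : F|`; `ρ` a subgroup of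
order at most `|K|` containing all `[e, b]`, `e ∈ E`, `b ∈ B`. If `B` does not centralise `L ∩ E`, then `ρ ≤ L`.

* `exists_indep` : a semilinear involution `T ≠ 1` of `K²` has a vector `x` independent of `T x`;
* `exists_beta` : `b ∈ B` acts on a bad block as `up (β b)`, `β` additive and onto `K`;
* `alpha`.
-/

set_option autoImplicit false
set_option linter.unusedSectionVars false

namespace Cfsg.Agent.Omega.NO3S.SFive

open Subgroup Cfsg Cfsg.Agent.ZN Cfsg.Agent.Omega.MinPar Cfsg.Agent.Omega.Frame Cfsg.Agent.Omega.FrameNOFF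
open Cfsg.Agent.Omega.NOne.Flat (Hyp EE WW NN BadX)
open Cfsg.Agent.Omega.NOne.NearFF (c)
open Cfsg.Agent.Omega.FFThm (NatK NatKM)
open Cfsg.Agent.Omega.Half (Amb amb_of_loc)
open Cfsg.Agent.Omega.Half.NatA (inj eq_one e_one e_inv Mv)
open Cfsg.Agent.Omega.NO1.NSix
open Cfsg.Agent.Omega.NatPair (ap ext2 ap_zero' ap_one')
open Cfsg.Agent.Lib.SL2Mat
open Cfsg.Agent.Omega.NOThreeL.Low (Blk)
open Cfsg.Agent.Omega.NOThreeL.Low.Key (BH)
open Cfsg.Agent.Omega.NOThreeL.Low.PSeven (Act blk_em em_blk)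
open Cfsg.Agent.Omega.NOThreeL.Low.Nat (QB Bad)

universe u

/-! ### Algebra -/

section alg

variable {K : Type*} [Field K] [CharP K 2]

/-- A semilinear involution `T ≠ 1` of `K²` has a vector `x` independent of `T x`. -/
theorem exists_indep {T : (Fin 2 → K) → (Fin 2 → K)} {s : K ≃+* K} (hadd : ∀ x y, T (x + y) = T x + T y)
    (hs : ∀ (a : K) x, T (a • x) = s a • T x) (hTT : ∀ x, T (T x) = x) {x₀ : Fin 2 → K} (hx₀ : T x₀ ≠ x₀) :
    ∃ x : Fin 2 → K, ∀ a b : K, a • x = b • T x → a = 0 ∧ b = 0 := by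
  by_contra hcon
  push Not at hcon
  have hT0 : ∀ x, T x = 0 → x = 0 := by
    intro x hx
    have h0 : T 0 = 0 := by
      have h1 := hs 0 0
      rwa [zero_smul, map_zero, zero_smul] at h1
    rw [← hTT x, hx, h0]
  -- every vector is an eigenvector
  have heig : ∀ x, x ≠ 0 → ∃ l : K, T x = l • x := by
    intro x hx
    obtain ⟨a, b, hab, hne⟩ := hcon x
    by_cases hb : b = 0
    · rw [hb, zero_smul] at hab
      rcases smul_eq_zero.1 hab with h | h
      · exact absurd hb (hne h)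
      · exact absurd h hx
    · refine ⟨b⁻¹ * a, ?_⟩
      rw [mul_smul, hab, smul_smul, inv_mul_cancel₀ hb, one_smul]
  set w1 : Fin 2 → K := ![1, 0] with hw1
  set w2 : Fin 2 → K := ![0, 1] with hw2
  have hw10 : w1 ≠ 0 := fun h => one_ne_zero (congrFun h 0)
  have hw20 : w2 ≠ 0 := fun h => one_ne_zero (congrFun h 1)
  obtain ⟨l, hl⟩ := heig w1 hw10
  obtain ⟨m, hm⟩ := heig w2 hw20
  have key : ∀ a : K, l * a = s a * m := by
    intro a
    have hne : w1 + a • w2 ≠ 0 := fun h => by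
      have h1 := congrFun h 0
      simp [hw1, hw2] at h1
    obtain ⟨n, hn⟩ := heig _ hne
    rw [hadd, hs, hl, hm] at hn
    have h1 := congrFun hn 0
    have h2 := congrFun hn 1
    simp [hw1, hw2] at h1 h2
    rw [h1]
    exact h2.symm
  have hlm : l = m := by
    have h1 := key 1
    rwa [mul_one, map_one, one_mul] at h1
  have hl0 : l ≠ 0 := by
    rintro rfl
    rw [zero_smul] at hl
    exact hw10 (hT0 _ hl)
  have hsa : ∀ a, s a = a := by
    intro a
    have h1 := key a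
    rw [← hlm, mul_comm l a] at h1
    exact (mul_right_cancel₀ hl0 h1).symm
  have hll : l = 1 := by
    have h1 := hTT w1
    rw [hl, hs, hsa, hl, smul_smul] at h1
    have h2 := congrFun h1 0
    simp [hw1] at h2
    have h3 : (l + 1) * (l + 1) = 0 := by
      have h4 : (2 : K) = 0 := CharTwo.two_eq_zero
      linear_combination h2 + (l + 1) * h4
    exact CharTwo.add_eq_zero.1 (mul_self_eq_zero.1 h3)
  apply hx₀
  have hdec : x₀ = x₀ 0 • w1 + x₀ 1 • w2 := ext2 (by simp [hw1, hw2]) (by simp [hw1, hw2])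
  conv_lhs => rw [hdec]
  rw [hadd, hs, hs, hsa, hsa, hl, hm, ← hlm, hll, one_smul, one_smul]
  exact hdec.symm

end alg

/-! ### The bad blocks -/

section grp

variable {G : Type u} [Group G] [Finite G] {S : Sylow 2 G} {P V F B : Subgroup G}
variable {K : Type} [Field K] [Finite K] [CharP K 2] {k : ℕ}
variable (N : NatKM K (S : Subgroup G) P (zl (S : Subgroup G) P) ⊥ k)

/-- `b ∈ B` acts on a bad block as `up (β b)`. -/
theorem exists_beta (hA : Amb (S : Subgroup G) P (zl (S : Subgroup G) P)) (bh : BH V F B)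
    (hUV : zl (S : Subgroup G) P ≤ V) (hQ : QB (S : Subgroup G) (zl (S : Subgroup G) P) B (EE V F))
    (hi : Nat.card K ≤ F.relIndex (V ⊓ B)) {i : Fin k} (hbad : Bad N.toNatK (EE V F) i) :
    ∃ β : G → K, Act N B i β ∧
      (∀ b ∈ B, ∀ v ∈ zl (S : Subgroup G) P, N.e (b * v * b⁻¹) i = ap (up (β b)) (N.e v i)) ∧
      ∀ x : K, ∃ b ∈ B, β b = x := by
  have hact : ∀ b ∈ B, ∃ x : K, ∀ v ∈ zl (S : Subgroup G) P, N.e (b * v * b⁻¹) i = ap (up x) (N.e v i) :=
    fun b hb => hQ.exists_up hA hbad hb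
  classical
  choose x hx using hact
  set β : G → K := fun b => if hb : b ∈ B then x b hb else 0 with hβ
  have hup : ∀ b ∈ B, ∀ v ∈ zl (S : Subgroup G) P, N.e (b * v * b⁻¹) i = ap (up (β b)) (N.e v i) := by
    intro b hb v hv
    have h1 := hx b hb v hv
    simp only [hβ, dif_pos hb]
    exact h1
  have hAct : Act N B i β := by
    intro b hb v hv
    refine ⟨⟨hA.conj_mem (hQ.BP hA hb) hv.1, fun j hj => ?_⟩, hup b hb v hv.1⟩
    obtain ⟨σ, hσ⟩ := N.perm b (hQ.BP hA hb)
    have hσi : σ i = i := hQ.fix hA hbad hb hσ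
    have h1 := (hσ v hv.1 (σ.symm j)).2 (hv.2 _ fun h2 => hj (by rw [← hσi, ← h2, σ.apply_symm_apply]))
    rwa [σ.apply_symm_apply] at h1
  refine ⟨β, hAct, hup, ?_⟩
  obtain ⟨w0, hw0⟩ := hbad
  have hadd : ∀ b ∈ B, ∀ b' ∈ B, β (b * b') = β b + β b' := fun b hb b' hb' =>
    NOThreeL.Low.PSeven.βmul hAct hb hb'
  have h1 : β 1 = 0 := by
    have h2 := hadd 1 (one_mem B) 1 (one_mem B)
    rw [mul_one] at h2
    exact left_eq_add.1 h2
  let φ : B →* Multiplicative K :=
    { toFun := fun b => Multiplicative.ofAdd (β b)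
      map_one' := by
        change Multiplicative.ofAdd (β 1) = 1
        rw [h1]; rfl
      map_mul' := fun b b' => by
        rw [coe_mul, hadd b b.2 b' b'.2]
        rfl }
  have hker : φ.ker ≤ (NN V F).subgroupOf B := by
    intro b hb
    rw [mem_subgroupOf]
    have h2 : β b = 0 := Multiplicative.ofAdd.injective (MonoidHom.mem_ker.1 hb)
    refine bh.mem_NN_of_c (hUV (em_mem N.toNatK i w0)) hw0 b.2 ?_
    rw [hAct.c_eq_one b.2 (em_blk N i w0) (by rw [h2, zero_mul])]
    exact one_mem F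
  have hfinM : Finite (Multiplicative K) := inferInstanceAs (Finite K)
  have h2 : Nat.card (Multiplicative K) ≤ Nat.card φ.range := by
    have h3 : ((NN V F).subgroupOf B).index ∣ φ.ker.index := index_dvd_of_le hker
    rw [index_ker] at h3
    have h4 : ((NN V F).subgroupOf B).index = F.relIndex (V ⊓ B) := bh.relIndex_B
    rw [h4] at h3
    exact (show Nat.card (Multiplicative K) = Nat.card K from rfl).le.trans (hi.trans (Nat.le_of_dvd Nat.card_pos h3))
  have h3 : φ.range = ⊤ := Subgroup.eq_top_of_le_card _ h2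
  intro y
  have h4 : Multiplicative.ofAdd y ∈ φ.range := by rw [h3]; exact mem_top _
  obtain ⟨b, hb⟩ := h4
  exact ⟨b, b.2, Multiplicative.ofAdd.injective hb⟩

omit [CharP K 2] in
theorem le_of_inj {U ρ : Subgroup G} (hρc : Nat.card ρ ≤ Nat.card K) (f : K → G) (hf : Function.Injective f)
    (h : ∀ x, f x ∈ ρ ∧ f x ∈ U) : ρ ≤ U := by
  have h1 : Nat.card K ≤ Nat.card ↥(ρ ⊓ U) :=
    Nat.card_le_card_of_injective (fun x => (⟨f x, mem_inf.2 (h x)⟩ : ↥(ρ ⊓ U))) fun x y hxy =>
      hf (congrArg Subtype.val hxy)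
  have h2 : ρ ⊓ U = ρ := Subgroup.eq_of_le_of_card_ge inf_le_left (hρc.trans h1)
  rw [← h2]
  exact inf_le_right

/-- **(alpha)** -/
theorem alpha {K : Type} [Field K] [Finite K] [CharP K 2] (hK : 4 ≤ Nat.card K) {k : ℕ}
    (N : NatKM K (S : Subgroup G) P (zl (S : Subgroup G) P) ⊥ k) (hc : IsCharacteristicTwoType G)
    (hP : IsParS (S : Subgroup G) P) (bh : BH V F B) (hsq : ∀ b ∈ B, b ^ 2 = 1) (hBS : B ≤ (S : Subgroup G))
    (hUV : zl (S : Subgroup G) P ≤ V) (_hUE : ¬ zl (S : Subgroup G) P ≤ EE V F)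
    (hi : Nat.card K ≤ F.relIndex (V ⊓ B)) {ρ : Subgroup G}
    (hρ : ∀ e ∈ EE V F, ∀ b ∈ B, c e b ∈ ρ) (hρc : Nat.card ρ ≤ Nat.card K)
    (hne : ¬ zl (S : Subgroup G) P ⊓ EE V F ≤ centralizer (B : Set G)) : ρ ≤ zl (S : Subgroup G) P := by
  have hA : Amb (S : Subgroup G) P (zl (S : Subgroup G) P) := amb_of_loc hc S hP.toIsPar.isLoc
  have hQ := Pas.qb (P := P) bh hsq hBS hUV (by omega)
  -- commutators are in `U`
  have hcU : ∀ v ∈ zl (S : Subgroup G) P, ∀ b ∈ B, c v b ∈ zl (S : Subgroup G) P := by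
    intro v hv b hb
    have e1 : c v b = v * (b * v * b⁻¹)⁻¹ := by rw [c]; group
    rw [e1]
    exact mul_mem hv (inv_mem (hA.conj_mem (hQ.BP hA hb) hv))
  have hce : ∀ v ∈ zl (S : Subgroup G) P, ∀ b ∈ B, ∀ l, N.e (c v b) l = N.e v l - N.e (b * v * b⁻¹) l := by
    intro v hv b hb l
    have e1 : c v b = v * (b * v * b⁻¹)⁻¹ := by rw [c]; group
    have h1 := hA.conj_mem (hQ.BP hA hb) hv
    rw [e1, N.mul v hv _ (inv_mem h1), e_inv N.toNatK h1, Pi.add_apply, Pi.neg_apply, sub_eq_add_neg]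
  obtain ⟨e, he, b, hb, hcomm⟩ : ∃ e ∈ zl (S : Subgroup G) P ⊓ EE V F, ∃ b ∈ B, b * e ≠ e * b := by
    by_contra hcon
    push Not at hcon
    exact hne fun e he => mem_centralizer_iff.2 fun b hb => hcon e he b hb
  obtain ⟨heU, heE⟩ := mem_inf.1 he
  by_cases hcase : ∃ l, Bad N.toNatK (EE V F) l ∧ N.e e l 1 ≠ 0
  · -- a bad component outside the root line
    obtain ⟨l, hl, hl1⟩ := hcase
    obtain ⟨β, -, hup, hsurj⟩ := exists_beta N hA bh hUV hQ hi hl
    choose g hg hgx using hsurj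
    refine le_of_inj (K := K) hρc (fun x => c e (g x)) (fun x y hxy => ?_) fun x =>
      ⟨hρ e heE _ (hg x), hcU e heU _ (hg x)⟩
    have hcoord : ∀ z : K, N.e (c e (g z)) l 0 = - (z * N.e e l 1) := by
      intro z
      rw [hce e heU _ (hg z), hup _ (hg z) e heU, hgx, Pi.sub_apply, ap_zero', up_00, up_01, one_mul]
      ring
    have h1 : N.e (c e (g x)) l 0 = N.e (c e (g y)) l 0 := by
      rw [show c e (g x) = c e (g y) from hxy]
    rw [hcoord, hcoord, neg_inj] at h1
    exact mul_right_cancel₀ hl1 h1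
  · push Not at hcase
    -- a good block moved by `b`
    obtain ⟨l, x₀, hgood, hx₀⟩ : ∃ l, ∃ x₀ : Fin 2 → K, ¬ Bad N.toNatK (EE V F) l ∧
        b * em N.toNatK l x₀ ≠ em N.toNatK l x₀ * b := by
      by_contra hcon
      push Not at hcon
      have h1 : e ∈ centralizer ({b} : Set G) := by
        refine mem_of_em N.toNatK heU fun j => ?_
        rw [mem_centralizer_iff]
        intro y hy
        rw [Set.mem_singleton_iff] at hy
        subst hy
        by_cases hj : Bad N.toNatK (EE V F) j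
        · obtain ⟨β, hAct, -, -⟩ := exists_beta N hA bh hUV hQ hi hj
          have h2 := hAct.c_eq_one hb (em_blk N j (N.e e j)) (by rw [e_em_self, hcase j hj, mul_zero])
          rw [c] at h2
          have h3 : em N.toNatK j (N.e e j) * y = y * em N.toNatK j (N.e e j) := by
            have h4 := mul_inv_eq_one.1 h2
            rw [mul_inv_eq_iff_eq_mul] at h4
            exact h4
          exact h3.symm
        · exact hcon j (N.e e j) hj
      exact hcomm (mem_centralizer_iff.1 h1 b rfl)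
    have hlE : ∀ x, em N.toNatK l x ∈ EE V F := by
      intro x
      by_contra hx
      exact hgood ⟨x, hx⟩
    have hbP := hQ.BP hA hb
    obtain ⟨σ, hσ⟩ := N.perm b hbP
    have hσ' : Mv N.toNatK b σ := hσ
    by_cases hσl : σ l = l
    · -- `b` is a semilinear involution of the block
      set T := ph N.toNatK b l l with hT
      obtain ⟨s, hs⟩ : ∃ s : K ≃+* K, ∀ (a : K) x, T (a • x) = s a • T x := by
        have h1 := exists_semi hA hbP hσ' l
        rwa [hσl] at h1
      have hadd : ∀ x y, T (x + y) = T x + T y := ph_add hA hbP l l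
      have hem : ∀ x, b * em N.toNatK l x * b⁻¹ = em N.toNatK l (T x) := by
        intro x
        refine (em_eq N.toNatK (hA.conj_mem hbP (em_mem N.toNatK l x)) fun j hj => ?_).symm
        have h1 := (hσ _ (em_mem N.toNatK l x) (σ.symm j)).2
          (e_em_ne N.toNatK (fun h2 => hj (by rw [← hσl, ← h2, σ.apply_symm_apply])) x)
        rwa [σ.apply_symm_apply] at h1
      have hTT : ∀ x, T (T x) = x := by
        intro x
        have h2 : em N.toNatK l (T (T x)) = em N.toNatK l x := by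
          rw [← hem, ← hem]
          have h1 : b * (b * em N.toNatK l x * b⁻¹) * b⁻¹ = b * b * em N.toNatK l x * (b * b)⁻¹ := by group
          rw [h1, hQ.sq b hb]
          group
        rw [← e_em_self N.toNatK l (T (T x)), h2, e_em_self]
      have hx1 : T x₀ ≠ x₀ := by
        intro h1
        apply hx₀
        have h2 := hem x₀
        rw [h1, mul_inv_eq_iff_eq_mul] at h2
        exact h2
      obtain ⟨x, hx⟩ := exists_indep hadd hs hTT hx1
      refine le_of_inj (K := K) hρc (fun a => c (em N.toNatK l (a • x)) b) (fun a a' haa => ?_) fun a =>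
        ⟨hρ _ (hlE _) b hb, hcU _ (em_mem N.toNatK l _) b hb⟩
      have hcoord : ∀ a : K, N.e (c (em N.toNatK l (a • x)) b) l = a • x - s a • T x := by
        intro a
        rw [hce _ (em_mem N.toNatK l _) b hb, e_em_self, hem, e_em_self, hs]
      have h1 : N.e (c (em N.toNatK l (a • x)) b) l = N.e (c (em N.toNatK l (a' • x)) b) l := by
        rw [show c (em N.toNatK l (a • x)) b = c (em N.toNatK l (a' • x)) b from haa]
      rw [hcoord, hcoord] at h1
      have h2 : (a - a') • x = (s a - s a') • T x := by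
        rw [sub_smul, sub_smul]
        have h3 : a • x - a' • x - (s a • T x - s a' • T x) = 0 := by
          have h4 : a • x - a' • x - (s a • T x - s a' • T x) = (a • x - s a • T x) - (a' • x - s a' • T x) := by
            abel
          rw [h4, h1, sub_self]
        exact sub_eq_zero.1 h3
      exact sub_eq_zero.1 (hx _ _ h2).1
    · -- `b` moves the block
      refine le_of_inj (K := K) hρc (fun a => c (em N.toNatK l ![a, 0]) b) (fun a a' haa => ?_) fun a =>
        ⟨hρ _ (hlE _) b hb, hcU _ (em_mem N.toNatK l _) b hb⟩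
      have hcoord : ∀ a : K, N.e (c (em N.toNatK l ![a, 0]) b) l = ![a, 0] := by
        intro a
        have h1 := (hσ _ (em_mem N.toNatK l ![a, 0]) (σ.symm l)).2
          (e_em_ne N.toNatK (fun h2 => hσl (σ.symm_apply_eq.1 h2).symm) _)
        rw [σ.apply_symm_apply] at h1
        rw [hce _ (em_mem N.toNatK l _) b hb, e_em_self, h1, sub_zero]
      have h1 : N.e (c (em N.toNatK l ![a, 0]) b) l = N.e (c (em N.toNatK l ![a', 0]) b) l := by
        rw [show c (em N.toNatK l ![a, 0]) b = c (em N.toNatK l ![a', 0]) b from haa]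
      rw [hcoord, hcoord] at h1
      exact congrFun h1 0

end grp

end Cfsg.Agent.Omega.NO3S.SFive

end
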